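import Cfsg.Agent.H0.EG24J.D
import Cfsg.Agent.H0.MJ2p.Main
set_option maxRecDepth 100000
set_option Elab.async false
set_option linter.unusedSectionVars false
namespace H0.EG24J
open H0 BN 
theorem defs_ok : DefsOK R.p defs 13 := defsOK_of_chk c39
universe u
variable {G : Type u} [Group G] [Finite G] (m0 : Model G) (h0 : m0.R = H0.MG24.R)
noncomputable def m : Model G := m0.ext (lg := nat_lit 9) (N := nat_lit 512) (l := H0.MG24.nl) h0 nl nl_ok 13 rfl defs defs_ok (by decide +kernel)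
theorem mR : (m m0 h0).R = R := rfl
variable (hb : m0.pst [112, 224, 101, 0] = ⊥) (hc : Nat.card G = 251596800)
include h0 hb hc
theorem base : (m m0 h0).pst [112, 224, 101, 0] = ⊥ := hb
omit hb hc in
theorem geq {x : ℕ} (h : x < 13) : (m m0 h0).g x = m0.g x := m0.ext_g h0 _ _ _ _ _ _ _ h
theorem U_iso : Nonempty (PG 12 H0.MJ2p.B ≃* gen (m m0 h0).g ((lets 12).map (sh 13))) :=
  iso_emb _ 13 (all_take_done (all_take_step (all_take_zero _ ((H0.MJ2p.B.map (sh 13)).map fun r => (r, ([] : List ℕ)))) ((m m0 h0).pairs_of (base m0 h0 hb hc) (Model.via _ (mR m0 h0) (fun R => pairsB R [112, 224, 101, 0] ((((H0.MJ2p.B.map (sh 13)).map fun r => (r, ([] : List ℕ))).drop 0).take 71)) c0))) (by decide +kernel)) (H0.MJ2p.simple (Pres.pg _ _)) ((m m0 h0).ne_of_neB (Model.via _ (mR m0 h0) (fun R => neB R [13] [] 1 42 1) c1)) (by decide +kernel)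
omit hb hc in
theorem U_fix : gen (m m0 h0).g ((lets 12).map (sh 13)) ≤ m0.pst [0] := (m m0 h0).gen_le_of_fixP (Model.via _ (mR m0 h0) (fun R => Model.fixP R [0] ((lets 12).map (sh 13))) c2)
omit hb hc in
theorem o1 : m0.orb (gen (m m0 h0).g ((lets 12).map (sh 13))) 1 = Set.Ico 1 (1 + 100) :=
  (m m0 h0).orb_eq_ico (((m m0 h0)).inOrb_grow [0, 3, 5, 1, 8, 0, 10, 1, 0] (((m m0 h0)).inOrb_self _ 1) (Model.via _ (mR m0 h0) (fun R => Model.growW R [[13], [14], [15], [16], [17], [18], [19], [20], [21], [22], [23], [24]] [0, 3, 5, 1, 8, 0, 10, 1, 0] (Nat.pow 2 1) (ival 1 100)) c3)) (Model.via _ (mR m0 h0) (fun R => Model.invW R [[13], [14], [15], [16], [17], [18], [19], [20], [21], [22], [23], [24]] 1 100) c4) (by decide)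
omit hb hc in
theorem o2 : m0.orb (gen (m m0 h0).g ((lets 12).map (sh 13))) 101 = Set.Ico 101 (101 + 315) :=
  (m m0 h0).orb_eq_ico (((m m0 h0)).inOrb_grow [0, 1, 3, 8, 5, 10, 6, 0, 1, 5, 1] (((m m0 h0)).inOrb_self _ 101) (Model.via _ (mR m0 h0) (fun R => Model.growW R [[13], [14], [15], [16], [17], [18], [19], [20], [21], [22], [23], [24]] [0, 1, 3, 8, 5, 10, 6, 0, 1, 5, 1] (Nat.pow 2 101) (ival 101 315)) c5)) (Model.via _ (mR m0 h0) (fun R => Model.invW R [[13], [14], [15], [16], [17], [18], [19], [20], [21], [22], [23], [24]] 101 315) c6) (by decide)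
theorem p1 (hO : m0.orb (m0.pst [0]) 1 = Set.Ico 1 (1 + 100)) : IsCoatom ((m0.pst [1]).subgroupOf (m0.pst [0])) :=
  (m m0 h0).coat_sub hO ((m m0 h0).gen_le_of_fixP (Model.via _ (mR m0 h0) (fun R => Model.fixP R [0] [[25], [26]]) c15)) ((m m0 h0).gen_le_of_fixP (Model.via _ (mR m0 h0) (fun R => Model.fixP R [1] [[25], [26]]) c16)) [([28], 5, 0x1fe3e23ffff167e27b3de0f620), ([27], 2, 0x1c1dc0000e981d84c21f09dc)] (List.forall_mem_cons.2 ⟨⟨((m m0 h0).gen_le_of_fixP (Model.via _ (mR m0 h0) (fun R => Model.fixP R [0] [[28]]) c12)) (mem_gen _ (by simp)), (m m0 h0).apply_w (Model.via _ (mR m0 h0) (fun R => Nat.ble (Nat.succ 1) R.N) (by decide +kernel)) (Model.via _ (mR m0 h0) (fun R => mapsW R [28] (Nat.pow 2 1) (Nat.pow 2 5)) c13), ((m m0 h0).inOrb_grow [0, 1, 0, 1, 0, 1, 0, 1, 0, 0] ((m m0 h0).inOrb_self _ 5) (Model.via _ (mR m0 h0) (fun R => Model.growW R [[25], [26]] [0, 1, 0, 1, 0, 1, 0, 1,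 0, 0] (Nat.pow 2 5) 0x1fe3e23ffff167e27b3de0f620) c11)), ((m m0 h0).inOrb_grow [0, 0, 1, 2, 0, 1, 2, 1, 0, 2, 0] ((m m0 h0).inOrb_self _ 1) (Model.via _ (mR m0 h0) (fun R => Model.growW R [[28], [25], [26]] [0, 0, 1, 2, 0, 1, 2, 1, 0, 2, 0] (Nat.pow 2 1) (ival 1 100)) c14))⟩, (List.forall_mem_cons.2 ⟨⟨((m m0 h0).gen_le_of_fixP (Model.via _ (mR m0 h0) (fun R => Model.fixP R [0] [[27]]) c8)) (mem_gen _ (by simp)), (m m0 h0).apply_w (Model.via _ (mR m0 h0) (fun R => Nat.ble (Nat.succ 1) R.N) (by decide +kernel)) (Model.via _ (mR m0 h0) (fun R => mapsW R [27] (Nat.pow 2 1) (Nat.pow 2 2)) c9), ((m m0 h0).inOrb_grow [0, 1, 0, 1, 0, 1, 0, 0, 1] ((m m0 h0).inOrb_self _ 2) (Model.via _ (mR m0 h0) (fun R => Model.growW R [[25], [26]] [0, 1, 0, 1, 0, 1, 0, 0, 1] (Nat.pow 2 2) 0x1c1dc0000e981d84c21f09dc) c7)), ((m m0 h0).inOrb_grow [0, 0, 1, 2, 0, 1, 2, 0, 1, 2] ((m m0 h0).inOrb_self _ 1) (Model.via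 _ (mR m0 h0) (fun R => Model.growW R [[27], [25], [26]] [0, 0, 1, 2, 0, 1, 2, 0, 1, 2] (Nat.pow 2 1) (ival 1 100)) c10))⟩, (fun _ h => absurd h List.not_mem_nil)⟩)⟩) (Model.via _ (mR m0 h0) (fun R => Nat.ble (1 + 100) R.N) (by decide +kernel)) (by decide +kernel)
theorem p2 (hO : m0.orb (m0.pst [0]) 101 = Set.Ico 101 (101 + 315)) : IsCoatom ((m0.pst [101]).subgroupOf (m0.pst [0])) :=
  (m m0 h0).coat_sub hO ((m m0 h0).gen_le_of_fixP (Model.via _ (mR m0 h0) (fun R => Model.fixP R [0] [[29], [30]]) c37)) ((m m0 h0).gen_le_of_fixP (Model.via _ (mR m0 h0) (fun R => Model.fixP R [101] [[29], [30]]) c38)) [([35], 384, 0xffffffff000000000000000000000000000000000000000000000000000000000000000000000000000000000000000000000000), ([34], 224, 0xffffffffffffffffffffffffffffffffffffffff00000000000000000000000000000000000000000000000000000000), ([33], 192, 0xffffffff000000000000000000000000000000000000000000000000),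 ([32], 112, 0xffffffffffffffffffff0000000000000000000000000000), ([31], 102, 0xffc0000000000000000000000000)] (List.forall_mem_cons.2 ⟨⟨((m m0 h0).gen_le_of_fixP (Model.via _ (mR m0 h0) (fun R => Model.fixP R [0] [[35]]) c34)) (mem_gen _ (by simp)), (m m0 h0).apply_w (Model.via _ (mR m0 h0) (fun R => Nat.ble (Nat.succ 101) R.N) (by decide +kernel)) (Model.via _ (mR m0 h0) (fun R => mapsW R [35] (Nat.pow 2 101) (Nat.pow 2 384)) c35), ((m m0 h0).inOrb_grow [0, 1, 0, 0, 0, 1, 0, 1, 0, 1, 0, 1, 0] ((m m0 h0).inOrb_self _ 384) (Model.via _ (mR m0 h0) (fun R => Model.growW R [[29], [30]] [0, 1, 0, 0, 0, 1, 0, 1, 0, 1, 0, 1, 0] (Nat.pow 2 384) 0xffffffff000000000000000000000000000000000000000000000000000000000000000000000000000000000000000000000000) c33)), ((m m0 h0).inOrb_grow [0, 0, 1, 2, 0, 1, 2, 0, 1, 0, 2, 0, 1, 0] ((m m0 h0).inOrb_self _ 101) (Model.via _ (mR m0 h0) (fun R => Model.growW R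 [[35], [29], [30]] [0, 0, 1, 2, 0, 1, 2, 0, 1, 0, 2, 0, 1, 0] (Nat.pow 2 101) (ival 101 315)) c36))⟩, (List.forall_mem_cons.2 ⟨⟨((m m0 h0).gen_le_of_fixP (Model.via _ (mR m0 h0) (fun R => Model.fixP R [0] [[34]]) c30)) (mem_gen _ (by simp)), (m m0 h0).apply_w (Model.via _ (mR m0 h0) (fun R => Nat.ble (Nat.succ 101) R.N) (by decide +kernel)) (Model.via _ (mR m0 h0) (fun R => mapsW R [34] (Nat.pow 2 101) (Nat.pow 2 224)) c31), ((m m0 h0).inOrb_grow [0, 1, 0, 0, 1, 0, 1, 0, 1, 0, 0, 1, 0, 1, 0] ((m m0 h0).inOrb_self _ 224) (Model.via _ (mR m0 h0) (fun R => Model.growW R [[29], [30]] [0, 1, 0, 0, 1, 0, 1, 0, 1, 0, 0, 1, 0, 1, 0] (Nat.pow 2 224) 0xffffffffffffffffffffffffffffffffffffffff00000000000000000000000000000000000000000000000000000000) c29)), ((m m0 h0).inOrb_grow [0, 0, 1, 2, 0, 1, 0, 1, 0, 2, 1, 0, 1, 0] ((m m0 h0).inOrb_self _ 101) (Model.via _ (mR m0 h0) (fun R => Model.growW R [[34],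 [29], [30]] [0, 0, 1, 2, 0, 1, 0, 1, 0, 2, 1, 0, 1, 0] (Nat.pow 2 101) (ival 101 315)) c32))⟩, (List.forall_mem_cons.2 ⟨⟨((m m0 h0).gen_le_of_fixP (Model.via _ (mR m0 h0) (fun R => Model.fixP R [0] [[33]]) c26)) (mem_gen _ (by simp)), (m m0 h0).apply_w (Model.via _ (mR m0 h0) (fun R => Nat.ble (Nat.succ 101) R.N) (by decide +kernel)) (Model.via _ (mR m0 h0) (fun R => mapsW R [33] (Nat.pow 2 101) (Nat.pow 2 192)) c27), ((m m0 h0).inOrb_grow [0, 0, 1, 0, 0, 1, 0, 1, 0, 0, 0, 1] ((m m0 h0).inOrb_self _ 192) (Model.via _ (mR m0 h0) (fun R => Model.growW R [[29], [30]] [0, 0, 1, 0, 0, 1, 0, 1, 0, 0, 0, 1] (Nat.pow 2 192) 0xffffffff000000000000000000000000000000000000000000000000) c25)), ((m m0 h0).inOrb_grow [0, 0, 1, 0, 1, 2, 0, 1, 0, 1, 2, 0, 1, 0, 0] ((m m0 h0).inOrb_self _ 101) (Model.via _ (mR m0 h0) (fun R => Model.growW R [[33], [29], [30]] [0, 0, 1, 0, 1, 2, 0, 1, 0, 1, 2, 0, 1, 0, 0]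 (Nat.pow 2 101) (ival 101 315)) c28))⟩, (List.forall_mem_cons.2 ⟨⟨((m m0 h0).gen_le_of_fixP (Model.via _ (mR m0 h0) (fun R => Model.fixP R [0] [[32]]) c22)) (mem_gen _ (by simp)), (m m0 h0).apply_w (Model.via _ (mR m0 h0) (fun R => Nat.ble (Nat.succ 101) R.N) (by decide +kernel)) (Model.via _ (mR m0 h0) (fun R => mapsW R [32] (Nat.pow 2 101) (Nat.pow 2 112)) c23), ((m m0 h0).inOrb_grow [0, 1, 0, 0, 1, 0, 1, 0, 1, 0, 0, 1] ((m m0 h0).inOrb_self _ 112) (Model.via _ (mR m0 h0) (fun R => Model.growW R [[29], [30]] [0, 1, 0, 0, 1, 0, 1, 0, 1, 0, 0, 1] (Nat.pow 2 112) 0xffffffffffffffffffff0000000000000000000000000000) c21)), ((m m0 h0).inOrb_grow [0, 0, 1, 2, 0, 1, 0, 2, 1, 0, 2, 1, 0, 0] ((m m0 h0).inOrb_self _ 101) (Model.via _ (mR m0 h0) (fun R => Model.growW R [[32], [29], [30]] [0, 0, 1, 2, 0, 1, 0, 2, 1, 0, 2, 1, 0, 0] (Nat.pow 2 101) (ival 101 315)) c24))⟩, (List.forall_mem_cons.2 ⟨⟨((m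 m0 h0).gen_le_of_fixP (Model.via _ (mR m0 h0) (fun R => Model.fixP R [0] [[31]]) c18)) (mem_gen _ (by simp)), (m m0 h0).apply_w (Model.via _ (mR m0 h0) (fun R => Nat.ble (Nat.succ 101) R.N) (by decide +kernel)) (Model.via _ (mR m0 h0) (fun R => mapsW R [31] (Nat.pow 2 101) (Nat.pow 2 102)) c19), ((m m0 h0).inOrb_grow [0, 0, 1, 0, 1, 0] ((m m0 h0).inOrb_self _ 102) (Model.via _ (mR m0 h0) (fun R => Model.growW R [[29], [30]] [0, 0, 1, 0, 1, 0] (Nat.pow 2 102) 0xffc0000000000000000000000000) c17)), ((m m0 h0).inOrb_grow [0, 0, 1, 0, 1, 2, 0, 1, 0, 2, 1, 0, 1, 0, 0] ((m m0 h0).inOrb_self _ 101) (Model.via _ (mR m0 h0) (fun R => Model.growW R [[31], [29], [30]] [0, 0, 1, 0, 1, 2, 0, 1, 0, 2, 1, 0, 1, 0, 0] (Nat.pow 2 101) (ival 101 315)) c20))⟩, (fun _ h => absurd h List.not_mem_nil)⟩)⟩)⟩)⟩)⟩) (Model.via _ (mR m0 h0) (fun R => Nat.ble (101 + 315) R.N) (by decide +kernel)) (by decide +kernel)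
end H0.EG24J
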